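import Groth.Agent.Lib.GITHM15.Integral
import Groth.Agent.Lib.GITHM15.Rep
import Groth.Agent.S18813
import Groth.Agent.Lib.FinGenH28.Basic
import Groth.Agent.Lib.AffAct15.Model
import Mathlib.FieldTheory.IsAlgClosed.AlgebraicClosure

/-!
# The shear map of an affine action without fixed one-parameter subgroups is finite
-/

set_option autoImplicit false
set_option linter.style.haveILetI false
set_option backward.isDefEq.respectTransparency.types false
universe u

open TensorProduct HopfRep LaurentPolynomial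
open Groth.Agent.Comodule (coordOrbit NoNeg)

noncomputable section

namespace Groth.Agent.AffProp15

section Closed

variable {k : Type u} [Field k] [IsAlgClosed k] [CharZero k] {A : Type u} [CommRing A] [HopfAlgebra k A]
  [Algebra.FiniteType k A] {κ : Type u} [Fintype κ] [Comod k A (MvPolynomial κ k)]
  [GLin.IsCoactAlg k A (MvPolynomial κ k)]

/-- If the specialisations of a family of vectors have no limits then its orbit map is integral. -/
theorem isIntegral_orbit (hG : IsLinearlyReductive k A) (hlin : GLin.IsLinear k A κ)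
    {M : Type u} [CommRing M] [Algebra k M] (ev : A →ₐ[k] M) (ζ : κ → M)
    (hst : ∀ z : κ → k, (∀ p, MvPolynomial.aeval ζ p = 0 → MvPolynomial.eval z p = 0) →
      ∀ lam : A →ₐc[k] k[T;T⁻¹], ¬ SGA3t2b.IsTrivialBialgHom lam →
        ∃ (i : κ) (n : ℤ), n < 0 ∧ (coordOrbit lam z i).coeff n ≠ 0) (a : A) :
    IsIntegral (Algebra.adjoin k (Set.range ζ ∪ Set.range (fun i =>
      Algebra.TensorProduct.lift (MvPolynomial.aeval ζ) ev (fun _ _ => .all _ _)
        (Comod.coact (k := k) (A := A) (MvPolynomial.X i : MvPolynomial κ k))))) (ev a) := by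
  classical
  set S := Algebra.adjoin k (Set.range ζ ∪ Set.range (fun i =>
      Algebra.TensorProduct.lift (MvPolynomial.aeval ζ) ev (fun _ _ => .all _ _)
        (Comod.coact (k := k) (A := A) (MvPolynomial.X i : MvPolynomial κ k)))) with hSdef
  by_contra ha
  obtain ⟨K, _, _, V, res, ω, y, halg, hker, hS, hna⟩ := GITHM15.exists_place_not_mem S
    (Subalgebra.fg_def.2 ⟨_, (Set.finite_range _).union (Set.finite_range _), hSdef.symm⟩) ha
  have hζ : ∀ i, ζ i ∈ S := fun i => Algebra.subset_adjoin (Or.inl ⟨i, rfl⟩)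
  let w : κ → V := fun i => ⟨ω (ζ i), (hS ⟨_, hζ i⟩).1⟩
  have hv : (fun i => res (w i)) = fun i => y ⟨_, hζ i⟩ := funext fun i => (hS ⟨_, hζ i⟩).2
  obtain ⟨lam, hlam, hlam'⟩ := HM15.exists_lam_valued hG hlin V res halg hker w false (ω.comp ev) (fun i => by
    have hi : Algebra.TensorProduct.lift (MvPolynomial.aeval ζ) ev (fun _ _ => .all _ _)
        (Comod.coact (k := k) (A := A) (MvPolynomial.X i : MvPolynomial κ k)) ∈ S :=
      Algebra.subset_adjoin (Or.inr ⟨i, rfl⟩)
    have e1 : Algebra.TensorProduct.lift (MvPolynomial.aeval fun l => (w l : K)) (ω.comp ev) (fun _ _ => .all _ _) =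
        ω.comp (Algebra.TensorProduct.lift (MvPolynomial.aeval ζ) ev (fun _ _ => .all _ _)) :=
      Algebra.TensorProduct.ext' fun P b => by
        simp only [Algebra.TensorProduct.lift_tmul, AlgHom.comp_apply, map_mul, w]
        rw [MvPolynomial.comp_aeval_apply]
    rw [e1, AlgHom.comp_apply]
    exact ⟨(hS ⟨_, hi⟩).1, fun h => absurd h Bool.false_ne_true⟩) (by simpa using ⟨a, hna⟩)
  rw [hv] at hlam'
  obtain ⟨i, n, hn, hc⟩ := hst _ (fun p hp => by
    let ζ' : κ → S := fun i => ⟨_, hζ i⟩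
    have h1 : MvPolynomial.aeval ζ' p = 0 := Subtype.ext (by
      show S.val (MvPolynomial.aeval ζ' p) = 0
      rw [MvPolynomial.comp_aeval_apply]
      exact hp)
    have h2 := congrArg y h1
    rwa [MvPolynomial.comp_aeval_apply, map_zero] at h2) lam hlam
  exact hc (hlam' i n (by simpa using hn))

end Closed

section General

variable {k : Type u} [Field k]

/-- A matrix describing the coaction on a finite generating set. -/
theorem exists_matrix_generators {A R : Type u} [CommRing A] [HopfAlgebra k A] [CommRing R] [Algebra k R]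
    [Comod k A R] [GLin.IsCoactAlg k A R] [Algebra.FiniteType k R] :
    ∃ (κ : Type u) (_ : Fintype κ) (_ : DecidableEq κ) (b : κ → R) (c : κ → κ → A),
      Function.Surjective (MvPolynomial.aeval b : MvPolynomial κ k →ₐ[k] R) ∧
      (∀ i, GLin.coactAlgHom k A R (b i) = ∑ j, b j ⊗ₜ[k] c i j) ∧
      (∀ i l, CoalgebraStruct.comul (R := k) (c i l) = ∑ j, c j l ⊗ₜ[k] c i j) ∧
      ∀ i l, Bialgebra.counitAlgHom k A (c i l) = if i = l then 1 else 0 := by
  classical
  obtain ⟨gen, hgen⟩ := Algebra.FiniteType.out (R := k) (A := R)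
  obtain ⟨N, hN, hfin, hgN⟩ := FinGenH28.exists_finite_subcomod_finset (k := k) (A := A) gen
  let bN := Module.Free.chooseBasis k N
  set b : Module.Free.ChooseBasisIndex k N → R := fun i => (bN i : R) with hbdef
  have hli : LinearIndependent k b := bN.linearIndependent.map' N.subtype N.ker_subtype
  obtain ⟨φ, hφ⟩ := (Finsupp.linearCombination k b).exists_leftInverse_of_injective (LinearMap.ker_eq_bot.2 hli)
  have hφb : ∀ i l, φ (b i) l = if i = l then 1 else 0 := fun i l => by
    rw [show φ (b i) = Finsupp.single i 1 by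
      conv_rhs => rw [← LinearMap.id_apply (R := k) (Finsupp.single i (1 : k)), ← hφ]
      simp, Finsupp.single_apply]
  have hspan : ∀ x : N, (x : R) = ∑ j, bN.repr x j • b j := fun x => by
    refine (congrArg Subtype.val (bN.sum_repr x)).symm.trans ?_
    simp only [hbdef, Submodule.coe_sum, Submodule.coe_smul]
  have hc : ∀ i, ∃ c : Module.Free.ChooseBasisIndex k N → A,
      GLin.coactAlgHom k A R (b i) = ∑ j, b j ⊗ₜ[k] c j := fun i => by
    have h : HopfRep.Comod.coact (k := k) (A := A) (b i) ∈ Comodule.tens A N := hN _ (bN i).2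
    rw [GLin.coactAlgHom_apply]
    obtain ⟨z, hz⟩ := h
    rw [← hz]
    clear hz
    induction z with
    | zero => exact ⟨0, by simp⟩
    | add p q hp hq =>
      obtain ⟨c, hc⟩ := hp
      obtain ⟨d, hd⟩ := hq
      exact ⟨c + d, by simp [map_add, hc, hd, TensorProduct.tmul_add, Finset.sum_add_distrib]⟩
    | tmul x y =>
      refine ⟨fun j => bN.repr x j • y, ?_⟩
      rw [LinearMap.rTensor_tmul, Submodule.subtype_apply, hspan x, TensorProduct.sum_tmul]
      simp [TensorProduct.smul_tmul]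
  choose c hc using hc
  refine ⟨_, inferInstance, inferInstance, b, c, ?_, hc, fun i l => ?_, fun i l => ?_⟩
  · rw [← AlgHom.range_eq_top, eq_top_iff, ← hgen, Algebra.adjoin_le_iff]
    intro r hr
    refine ⟨∑ j, MvPolynomial.C (bN.repr ⟨r, hgN hr⟩ j) * MvPolynomial.X j, ?_⟩
    refine Eq.trans ?_ (hspan ⟨r, hgN hr⟩).symm
    simp [Algebra.smul_def]
  · let ψ : R →ₗ[k] k := Finsupp.lapply l ∘ₗ φ
    have hψ : ∀ j, ψ (b j) = if j = l then 1 else 0 := fun j => hφb j l
    have h := congrArg (fun z => TensorProduct.lid k (A ⊗[k] A) (ψ.rTensor (A ⊗[k] A) z))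
      (LinearMap.congr_fun (Comod.coassoc (k := k) (A := A) (V := R)) (b i))
    simp only [LinearMap.comp_apply, ← GLin.coactAlgHom_apply, hc, map_sum, LinearMap.rTensor_tmul,
      LinearMap.lTensor_tmul, TensorProduct.sum_tmul, LinearEquiv.coe_coe, TensorProduct.assoc_tmul, hψ,
      TensorProduct.lid_tmul, ite_smul, one_smul, zero_smul, Finset.sum_ite_eq', Finset.mem_univ, if_true] at h
    exact h.symm
  · let ψ : R →ₗ[k] k := Finsupp.lapply l ∘ₗ φ
    have hψ : ∀ j, ψ (b j) = if j = l then 1 else 0 := fun j => hφb j l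
    have h := congrArg (fun z => ψ (TensorProduct.rid k R z))
      (LinearMap.congr_fun (Comod.counit_comp (k := k) (A := A) (V := R)) (b i))
    simp only [LinearMap.comp_apply, ← GLin.coactAlgHom_apply, hc, map_sum, LinearMap.lTensor_tmul,
      LinearMap.flip_apply, TensorProduct.mk_apply, TensorProduct.rid_tmul, map_smul, hψ, smul_eq_mul, mul_ite,
      mul_one, mul_zero, Finset.sum_ite_eq', Finset.mem_univ, if_true, one_mul] at h
    exact h

variable {K : Type u} [Field K] [Algebra k K]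

/-- The comultiplication of a scalar extension. -/
theorem comul_one_tmul {A : Type u} [CommRing A] [HopfAlgebra k A] {κ : Type u} [Fintype κ] {c : κ → κ → A}
    (hcomul : ∀ i l, CoalgebraStruct.comul (R := k) (c i l) = ∑ j, c j l ⊗ₜ[k] c i j) (i l : κ) :
    CoalgebraStruct.comul (R := K) ((1 : K) ⊗ₜ[k] c i l) =
      ∑ j, ((1 : K) ⊗ₜ[k] c j l) ⊗ₜ[K] ((1 : K) ⊗ₜ[k] c i j) := by
  rw [TensorProduct.comul_tmul, CommSemiring.comul_apply, hcomul, TensorProduct.tmul_sum, map_sum]
  simp only [TensorProduct.AlgebraTensorModule.tensorTensorTensorComm_tmul]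

/-- The coefficients of a one-parameter subgroup in a matrix are orthogonal projections. -/
theorem coeff_mul_coeff {A : Type u} [CommRing A] [HopfAlgebra K A] {κ : Type u} [Fintype κ] {c : κ → κ → A}
    (hcomul : ∀ i l, CoalgebraStruct.comul (R := K) (c i l) = ∑ j, c j l ⊗ₜ[K] c i j) (lam : A →ₐc[K] K[T;T⁻¹])
    (i l : κ) (n m : ℤ) :
    ∑ j, (lam (c j l)).coeff n * (lam (c i j)).coeff m = if n = m then (lam (c i l)).coeff n else 0 := by
  classical
  let cf : ℤ → K[T;T⁻¹] →ₗ[K] K := fun n =>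
    { toFun := fun f => f.coeff n, map_add' := fun _ _ => rfl, map_smul' := fun _ _ => rfl }
  let Φ : K[T;T⁻¹] ⊗[K] K[T;T⁻¹] →ₗ[K] K :=
    (TensorProduct.lid K K).toLinearMap ∘ₗ TensorProduct.map (cf n) (cf m)
  have hΦ : ∀ f g, Φ (f ⊗ₜ[K] g) = f.coeff n * g.coeff m := fun f g => by simp [Φ, cf]
  have key : ∀ f : K[T;T⁻¹], Φ (CoalgebraStruct.comul (R := K) f) = if n = m then f.coeff n else 0 := by
    intro f
    induction f using LaurentPolynomial.induction_on' with
    | add p q hp hq =>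
      rw [map_add, map_add, hp, hq]
      split_ifs <;> simp
    | C_mul_T d a =>
      rw [← LaurentPolynomial.smul_eq_C_mul, map_smul, map_smul, LaurentPolynomial.comul_T, hΦ]
      simp only [smul_eq_mul, LaurentPolynomial.smul_eq_C_mul, Comodule.coeff_C_mul_T,
        show ∀ d n : ℤ, (T d : K[T;T⁻¹]).coeff n = if d = n then 1 else 0 from fun d n => by
          rw [← _root_.one_mul (T d), ← map_one (C : K →+* K[T;T⁻¹]), Comodule.coeff_C_mul_T]]
      split_ifs <;> simp_all
  have h := key (lam (c i l))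
  rw [← CoalgHomClass.map_comp_comul_apply lam, hcomul, map_sum, map_sum] at h
  simpa [hΦ] using h

variable [CharZero k] {A R : Type u} [CommRing A] [HopfAlgebra k A] [Algebra.FiniteType k A]
  [CommRing R] [Algebra k R] [Comod k A R] [GLin.IsCoactAlg k A R] [Algebra.FiniteType k R]

open Groth.Agent.AffAct15 (pair)

/-- No nontrivial one-parameter family fixes a geometric point. -/
def NoFixed (k K A R : Type u) [Field k] [Field K] [Algebra k K] [CommRing A] [HopfAlgebra k A] [CommRing R]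
    [Algebra k R] [Comod k A R] [GLin.IsCoactAlg k A R] : Prop :=
  ∀ (y : R →ₐ[k] K) (g : A →ₐ[k] K[T;T⁻¹]),
    (pair ((IsScalarTower.toAlgHom k K K[T;T⁻¹]).comp y) g).comp (GLin.coactAlgHom k A R) =
      (IsScalarTower.toAlgHom k K K[T;T⁻¹]).comp y →
    ∀ a, ∃ c : K, g a = C c

variable (k A R) in
/-- The shear map `r ⊗ r' ↦ ρ r · (r' ⊗ 1)`. -/
def shear : R ⊗[k] R →ₐ[k] R ⊗[k] A :=
  Algebra.TensorProduct.lift (GLin.coactAlgHom k A R) Algebra.TensorProduct.includeLeft fun _ _ => .all _ _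

/-- A one-parameter subgroup with a limit at a geometric point fixes some geometric point. -/
theorem exists_neg_coeff {κ : Type u} [Fintype κ] [DecidableEq κ] {b : κ → R} {c : κ → κ → A}
    (hb : Function.Surjective (MvPolynomial.aeval b : MvPolynomial κ k →ₐ[k] R))
    (hρ : ∀ i, GLin.coactAlgHom k A R (b i) = ∑ j, b j ⊗ₜ[k] c i j) (hfix : NoFixed k K A R)
    (hcomul' : ∀ i l, CoalgebraStruct.comul (R := K) ((1 : K) ⊗ₜ[k] c i l) =
      ∑ j, ((1 : K) ⊗ₜ[k] c j l) ⊗ₜ[K] ((1 : K) ⊗ₜ[k] c i j))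
    (hcounit' : ∀ i l, Bialgebra.counitAlgHom K (K ⊗[k] A) ((1 : K) ⊗ₜ[k] c i l) = if i = l then 1 else 0)
    (z : κ → K) (hz : ∀ p : MvPolynomial κ K,
      MvPolynomial.aeval (fun i => (1 : K) ⊗ₜ[k] (b i ⊗ₜ[k] (1 : A))) p = 0 → MvPolynomial.eval z p = 0)
    (lam : K ⊗[k] A →ₐc[K] K[T;T⁻¹]) (hlam : ¬ SGA3t2b.IsTrivialBialgHom lam) :
    letI := GITHM15.matComod (fun i j => (1 : K) ⊗ₜ[k] c i j) hcomul' hcounit'
    haveI := GITHM15.isCoactAlg_matComod (fun i j => (1 : K) ⊗ₜ[k] c i j) hcomul' hcounit'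
    ∃ (i : κ) (n : ℤ), n < 0 ∧ (coordOrbit lam z i).coeff n ≠ 0 := by
  letI := GITHM15.matComod (fun i j => (1 : K) ⊗ₜ[k] c i j) hcomul' hcounit'
  haveI := GITHM15.isCoactAlg_matComod (fun i j => (1 : K) ⊗ₜ[k] c i j) hcomul' hcounit'
  let A' := K ⊗[k] A
  let c' : κ → κ → A' := fun i j => (1 : K) ⊗ₜ[k] c i j
  let ζ : κ → K ⊗[k] (R ⊗[k] A) := fun i => (1 : K) ⊗ₜ[k] (b i ⊗ₜ[k] (1 : A))
  by_contra hcon
  push Not at hcon
  -- the point
  have hker : ∀ {B : Type u} [CommRing B] [Algebra k B] (w : κ → B),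
      (∀ p : MvPolynomial κ k, MvPolynomial.aeval b p = 0 → MvPolynomial.aeval w p = 0) →
      ∃ f : R →ₐ[k] B, ∀ i, f (b i) = w i := fun {B} _ _ w hw => by
    refine ⟨AlgHom.liftOfSurjective (MvPolynomial.aeval b) hb (MvPolynomial.aeval w) fun p hp => hw p hp, fun i => ?_⟩
    conv_lhs => rw [← MvPolynomial.aeval_X (R := k) b i]
    rw [AlgHom.liftOfSurjective_apply, MvPolynomial.aeval_X]
  obtain ⟨y₀, hy₀⟩ := hker z (fun p hp => by
    rw [← MvPolynomial.aeval_map_algebraMap K, MvPolynomial.aeval_eq_eval]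
    refine hz _ ?_
    rw [MvPolynomial.aeval_map_algebraMap]
    let φc : R →ₐ[k] K ⊗[k] (R ⊗[k] A) :=
      (Algebra.TensorProduct.includeRight (R := k) (A := K) (B := R ⊗[k] A)).comp
        (Algebra.TensorProduct.includeLeft (R := k) (S := k) (A := R) (B := A))
    have hφc : (fun i => φc (b i)) = ζ := rfl
    have := MvPolynomial.comp_aeval_apply b φc p
    rw [hφc] at this
    show MvPolynomial.aeval ζ p = 0
    rw [← this, hp, map_zero])
  let P : κ → κ → K[T;T⁻¹] := fun i j => lam (c' i j)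
  have hPP : ∀ i l n m, ∑ j, (P j l).coeff n * (P i j).coeff m = if n = m then (P i l).coeff n else 0 :=
    coeff_mul_coeff hcomul' lam
  have horb : ∀ i, coordOrbit lam z i = ∑ j, C (z j) * P i j := fun i => by
    show lam (GLin.orbitHom K A' (GLin.vecPt K κ z) (MvPolynomial.X i)) = _
    rw [GITHM15.orbitHom_matComod c' hcomul' hcounit', map_sum]
    exact Finset.sum_congr rfl fun j _ => by rw [map_smul, LaurentPolynomial.smul_eq_C_mul]
  let g : A →ₐ[k] K[T;T⁻¹] :=
    ((lam : A' →ₐ[K] K[T;T⁻¹]).restrictScalars k).comp (Algebra.TensorProduct.includeRight (R := k) (A := K) (B := A))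
  have hgc : ∀ i j, g (c i j) = P i j := fun i j => rfl
  let inC : K →ₐ[k] K[T;T⁻¹] := IsScalarTower.toAlgHom k K K[T;T⁻¹]
  have hinC : ∀ x, inC x = C x := fun x => by simp [inC]
  let xT : R →ₐ[k] K[T;T⁻¹] := (pair (inC.comp y₀) g).comp (GLin.coactAlgHom k A R)
  have hxT : ∀ i, xT (b i) = coordOrbit lam z i := fun i => by
    rw [horb, AlgHom.comp_apply, hρ, map_sum]
    refine Finset.sum_congr rfl fun j _ => ?_
    rw [Algebra.TensorProduct.lift_tmul, AlgHom.comp_apply, hy₀, hgc, hinC]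
  have hnn : ∀ i, ∃ f : Polynomial K, Polynomial.toLaurent f = coordOrbit lam z i := fun i =>
    ⟨_, Comodule.noNeg_iff.1 fun n hn => hcon i n hn⟩
  choose f hf using hnn
  obtain ⟨y, hy⟩ := hker (fun i => (f i).eval 0) (fun p hp => by
    have h1 : MvPolynomial.aeval f p = (0 : Polynomial K) := by
      apply Polynomial.toLaurent_injective
      rw [map_zero]
      show ((Polynomial.toLaurentAlg (R := K)).restrictScalars k) (MvPolynomial.aeval f p) = 0
      rw [MvPolynomial.comp_aeval_apply]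
      rw [show (fun i => ((Polynomial.toLaurentAlg (R := K)).restrictScalars k) (f i)) = fun i => xT (b i) from
        funext fun i => by rw [hxT, ← hf]; rfl]
      rw [← MvPolynomial.comp_aeval_apply b xT, hp, map_zero]
    have h2 := congrArg ((Polynomial.aeval (0 : K)).restrictScalars k) h1
    rw [MvPolynomial.comp_aeval_apply, map_zero] at h2
    exact h2)
  have hy' : ∀ i, y (b i) = ∑ l, z l * (P i l).coeff 0 := fun i => by
    rw [hy, ← Polynomial.coeff_zero_eq_eval_zero]
    have := Comodule.coeff_toLaurent (f i) 0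
    rw [hf, horb] at this
    simp [← LaurentPolynomial.smul_eq_C_mul] at this
    exact this.symm
  have hfixed : (pair (inC.comp y) g).comp (GLin.coactAlgHom k A R) = inC.comp y := by
    refine AlgHom.ext fun r => ?_
    obtain ⟨p, rfl⟩ := hb r
    rw [MvPolynomial.comp_aeval_apply, MvPolynomial.comp_aeval_apply]
    congr 1
    refine congrArg (fun w => MvPolynomial.aeval w) (funext fun i => ?_)
    rw [AlgHom.comp_apply, hρ, map_sum, AlgHom.comp_apply, hinC]
    simp only [Algebra.TensorProduct.lift_tmul, AlgHom.comp_apply, hinC, hgc, hy']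
    refine AddMonoidAlgebra.ext (Finsupp.ext fun n => ?_)
    simp only [← LaurentPolynomial.smul_eq_C_mul, AddMonoidAlgebra.coeff_sum, AddMonoidAlgebra.coeff_smul,
      Finsupp.coe_finsetSum, Finset.sum_apply, Finsupp.coe_smul, Pi.smul_apply, smul_eq_mul,
      Finset.sum_mul]
    rw [Finset.sum_comm]
    simp only [_root_.mul_assoc, ← Finset.mul_sum, hPP, mul_ite, mul_zero]
    rw [show (C (∑ l, z l * (P i l).coeff 0) : K[T;T⁻¹]) = C (∑ l, z l * (P i l).coeff 0) * T 0 by simp,
      Comodule.coeff_C_mul_T]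
    split_ifs <;> simp
  have hconst := hfix y g hfixed
  apply hlam
  have hAt : ∀ x : A, lam ((1 : K) ⊗ₜ[k] x) =
      algebraMap K K[T;T⁻¹] (Coalgebra.counit (R := K) ((1 : K) ⊗ₜ[k] x)) := fun x => by
    obtain ⟨cst, hcst⟩ := hconst x
    have hcst' : lam ((1 : K) ⊗ₜ[k] x) = C cst := hcst
    rw [← CoalgHomClass.counit_comp_apply lam, hcst']
    simp [← LaurentPolynomial.algebraMap_apply, Bialgebra.counit_algebraMap]
  intro a
  induction a with
  | zero => simp
  | add p q hp hq => simp only [map_add, hp, hq]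
  | tmul s x =>
    rw [show (s ⊗ₜ[k] x : A') = s • ((1 : K) ⊗ₜ[k] x) by simp [TensorProduct.smul_tmul'], map_smul, map_smul, hAt,
      Algebra.smul_def, ← map_mul]
    rfl

/-- Finiteness of a map of algebras descends from an extension of the field. -/
theorem finite_of_baseChange {B B' : Type u} [CommRing B] [Algebra k B] [CommRing B'] [Algebra k B'] (f : B →ₐ[k] B')
    (hf : (Algebra.TensorProduct.map (AlgHom.id K K) f).toRingHom.Finite) : f.toRingHom.Finite := by
  classical
  obtain ⟨p₀, hp₀⟩ := (Algebra.linearMap k K).exists_leftInverse_of_injective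
    (LinearMap.ker_eq_bot.2 (algebraMap k K).injective)
  have hp1 : p₀ 1 = 1 := by simpa using LinearMap.congr_fun hp₀ 1
  let μK := Algebra.TensorProduct.map (AlgHom.id K K) f
  letI := μK.toRingHom.toAlgebra
  obtain ⟨W, hW⟩ := (hf : Module.Finite (K ⊗[k] B) (K ⊗[k] B')).fg_top
  choose fW hfW using fun w : K ⊗[k] B' => TensorProduct.exists_finset w
  let Wset : Finset B' := W.biUnion fun w => (fW w).image Prod.snd
  letI := f.toRingHom.toAlgebra
  haveI : IsScalarTower k B B' := .of_algebraMap_eq fun x => (f.commutes x).symm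
  refine ⟨⟨Wset, eq_top_iff.2 fun x _ => ?_⟩⟩
  let π : K ⊗[k] B' →ₗ[k] B' := (TensorProduct.lid k B').toLinearMap ∘ₗ p₀.rTensor B'
  let N := Submodule.span B (Wset : Set B')
  have hπ : ∀ m ∈ Submodule.span (K ⊗[k] B) (W : Set (K ⊗[k] B')), ∀ z : K ⊗[k] B, π (μK z * m) ∈ N := by
    intro m hm
    induction hm using Submodule.span_induction with
    | zero => intro z; rw [mul_zero, map_zero]; exact zero_mem _
    | add p q _ _ hp hq => intro z; rw [mul_add, map_add]; exact add_mem (hp z) (hq z)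
    | smul c p _ hp =>
      intro z
      have := hp (z * c)
      rw [map_mul μK, _root_.mul_assoc] at this
      rw [Algebra.smul_def]
      exact this
    | mem w hw =>
      intro z
      induction z with
      | zero => rw [map_zero, zero_mul, map_zero]; exact zero_mem _
      | add p q hp hq => rw [map_add, add_mul, map_add]; exact add_mem hp hq
      | tmul s v =>
        rw [hfW w, Finset.mul_sum, map_sum]
        refine sum_mem fun q hq => ?_
        have : π (μK (s ⊗ₜ[k] v) * (q.1 ⊗ₜ[k] q.2)) = p₀ (s * q.1) • (v • q.2) := by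
          simp [π, μK, Algebra.TensorProduct.tmul_mul_tmul]
          rfl
        rw [this]
        refine N.smul_of_tower_mem _ (N.smul_mem _ (Submodule.subset_span ?_))
        exact Finset.mem_biUnion.2 ⟨w, hw, Finset.mem_image_of_mem _ hq⟩
  have := hπ ((1 : K) ⊗ₜ[k] x) (by rw [hW]; trivial) 1
  simpa [π, hp1, N] using this

variable (K) in
/-- The shear map is finite when stabilisers contain no one-parameter subgroup. -/
theorem finite_shear [IsAlgClosed K] (hG : IsLinearlyReductive k A) (hfix : NoFixed k K A R) :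
    (shear k A R).toRingHom.Finite := by
  classical
  haveI : CharZero K := charZero_of_injective_algebraMap (algebraMap k K).injective
  obtain ⟨κ, _, _, b, c, hb, hρ, hcomul, hcounit⟩ := exists_matrix_generators (k := k) (A := A) (R := R)
  let A' := K ⊗[k] A
  let c' : κ → κ → A' := fun i j => (1 : K) ⊗ₜ[k] c i j
  have hcomul' : ∀ i l, CoalgebraStruct.comul (R := K) (c' i l) = ∑ j, c' j l ⊗ₜ[K] c' i j := comul_one_tmul hcomul
  have hcounit' : ∀ i l, Bialgebra.counitAlgHom K A' (c' i l) = if i = l then 1 else 0 := fun i l => by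
    show Coalgebra.counit (R := K) ((1 : K) ⊗ₜ[k] c i l) = _
    rw [TensorProduct.counit_tmul, show Coalgebra.counit (R := k) (c i l) = _ from hcounit i l]
    split_ifs <;> simp
  letI := GITHM15.matComod c' hcomul' hcounit'
  haveI := GITHM15.isCoactAlg_matComod c' hcomul' hcounit'
  haveI : Algebra.FiniteType K A' := Algebra.FiniteType.baseChange K
  have hG' : IsLinearlyReductive K A' := (Groth.Agent.S18813.result k K A).1 hG
  let M := K ⊗[k] (R ⊗[k] A)
  let ev : A' →ₐ[K] M := Algebra.TensorProduct.map (AlgHom.id K K) Algebra.TensorProduct.includeRight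
  let ζ : κ → M := fun i => (1 : K) ⊗ₜ[k] (b i ⊗ₜ[k] (1 : A))
  let μK : K ⊗[k] (R ⊗[k] R) →ₐ[K] M := Algebra.TensorProduct.map (AlgHom.id K K) (shear k A R)
  have hevc : ∀ i j, ev (c' i j) = (1 : K) ⊗ₜ[k] ((1 : R) ⊗ₜ[k] c i j) := fun i j => rfl
  have hphi : ∀ i, Algebra.TensorProduct.lift (MvPolynomial.aeval ζ) ev (fun _ _ => .all _ _)
      (Comod.coact (k := K) (A := A') (MvPolynomial.X i : MvPolynomial κ K)) =
        (1 : K) ⊗ₜ[k] GLin.coactAlgHom k A R (b i) := fun i => by
    show Algebra.TensorProduct.lift _ _ _ (GITHM15.coactA (k := K) c' (MvPolynomial.X i)) = _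
    rw [GITHM15.coactA, MvPolynomial.aeval_X, map_sum, hρ, TensorProduct.tmul_sum]
    refine Finset.sum_congr rfl fun j _ => ?_
    rw [Algebra.TensorProduct.lift_tmul, MvPolynomial.aeval_X, hevc]
    show (1 : K) ⊗ₜ[k] (b j ⊗ₜ[k] (1 : A)) * (1 : K) ⊗ₜ[k] ((1 : R) ⊗ₜ[k] c i j) = _
    rw [Algebra.TensorProduct.tmul_mul_tmul, Algebra.TensorProduct.tmul_mul_tmul]
    simp only [_root_.mul_one, _root_.one_mul]
  have hst : ∀ z : κ → K, (∀ p, MvPolynomial.aeval ζ p = 0 → MvPolynomial.eval z p = 0) →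
      ∀ lam : A' →ₐc[K] K[T;T⁻¹], ¬ SGA3t2b.IsTrivialBialgHom lam →
        ∃ (i : κ) (n : ℤ), n < 0 ∧ (coordOrbit lam z i).coeff n ≠ 0 :=
    fun z hz lam hlam => exists_neg_coeff hb hρ hfix hcomul' hcounit' z hz lam hlam
  have hint := isIntegral_orbit hG' (GITHM15.isLinear_matComod c' hcomul' hcounit') ev ζ hst
  -- everything is integral over the image
  letI := μK.toRingHom.toAlgebra
  haveI : IsScalarTower K (K ⊗[k] (R ⊗[k] R)) M := .of_algebraMap_eq fun x => (μK.commutes x).symm
  let E := (integralClosure (K ⊗[k] (R ⊗[k] R)) M).restrictScalars K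
  have hbase : ∀ x, μK x ∈ E := fun x => (integralClosure (K ⊗[k] (R ⊗[k] R)) M).algebraMap_mem x
  have hμ1 : ∀ r r' : R, μK ((1 : K) ⊗ₜ[k] (r ⊗ₜ[k] r')) =
      (1 : K) ⊗ₜ[k] (GLin.coactAlgHom k A R r * (r' ⊗ₜ[k] (1 : A))) := fun r r' => by
    show (AlgHom.id K K) (1 : K) ⊗ₜ[k] shear k A R (r ⊗ₜ[k] r') = _
    rw [shear, Algebra.TensorProduct.lift_tmul]
    rfl
  have hR : ∀ r : R, (1 : K) ⊗ₜ[k] (r ⊗ₜ[k] (1 : A)) ∈ E := fun r => by
    have := hbase ((1 : K) ⊗ₜ[k] ((1 : R) ⊗ₜ[k] r))
    rwa [hμ1, map_one, _root_.one_mul] at this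
  have hρE : ∀ r : R, (1 : K) ⊗ₜ[k] GLin.coactAlgHom k A R r ∈ E := fun r => by
    have := hbase ((1 : K) ⊗ₜ[k] (r ⊗ₜ[k] (1 : R)))
    rwa [hμ1, ← Algebra.TensorProduct.one_def, _root_.mul_one] at this
  let S := Algebra.adjoin K (Set.range ζ ∪ Set.range (fun i =>
      Algebra.TensorProduct.lift (MvPolynomial.aeval ζ) ev (fun _ _ => .all _ _)
        (Comod.coact (k := K) (A := A') (MvPolynomial.X i : MvPolynomial κ K))))
  have hSE : S ≤ E := Algebra.adjoin_le (by
    rintro x (⟨i, rfl⟩ | ⟨i, rfl⟩)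
    · exact hR (b i)
    · show _ ∈ E
      beta_reduce
      rw [hphi]
      exact hρE _)
  have hev : ∀ a, ev a ∈ E := fun a => by
    let incl : S →+* integralClosure (K ⊗[k] (R ⊗[k] R)) M :=
      (Subalgebra.val S).toRingHom.codRestrict _ fun x => hSE x.2
    obtain ⟨p, hp, hp0⟩ := hint a
    refine isIntegral_trans (A := integralClosure (K ⊗[k] (R ⊗[k] R)) M) _ ⟨p.map incl, hp.map _, ?_⟩
    rw [Polynomial.eval₂_map]
    exact hp0
  have hall : ∀ x : M, x ∈ E := fun x => by
    induction x using TensorProduct.induction_on with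
    | zero => exact E.zero_mem
    | add p q hp hq => exact E.add_mem hp hq
    | tmul s y =>
      induction y with
      | zero => rw [TensorProduct.tmul_zero]; exact E.zero_mem
      | add p q hp hq => rw [TensorProduct.tmul_add]; exact E.add_mem hp hq
      | tmul r x =>
        have : (s ⊗ₜ[k] (r ⊗ₜ[k] x) : M) = (1 : K) ⊗ₜ[k] (r ⊗ₜ[k] (1 : A)) * ev (s ⊗ₜ[k] x) := by
          show _ = (1 : K) ⊗ₜ[k] (r ⊗ₜ[k] (1 : A)) * s ⊗ₜ[k] ((1 : R) ⊗ₜ[k] x)
          rw [Algebra.TensorProduct.tmul_mul_tmul, Algebra.TensorProduct.tmul_mul_tmul]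
          simp only [_root_.mul_one, _root_.one_mul]
        rw [this]
        exact E.mul_mem (hR r) (hev _)
  haveI : Algebra.IsIntegral (K ⊗[k] (R ⊗[k] R)) M := ⟨hall⟩
  haveI : Algebra.FiniteType k (R ⊗[k] A) :=
    Algebra.FiniteType.trans (inferInstance : Algebra.FiniteType k R) inferInstance
  haveI : Algebra.FiniteType K M := Algebra.FiniteType.baseChange K
  haveI : Algebra.FiniteType (K ⊗[k] (R ⊗[k] R)) M := Algebra.FiniteType.of_restrictScalars_finiteType K _ M
  haveI hfinM : Module.Finite (K ⊗[k] (R ⊗[k] R)) M := Algebra.IsIntegral.finite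
  exact finite_of_baseChange (K := K) (shear k A R) hfinM

end General

end Groth.Agent.AffProp15
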