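import Groth.Agent.Lib.AffProp15.Finite
import Groth.Agent.Lib.GITHM15.PropMain
import Groth.Agent.Lib.GITQuot.Descend
import Mathlib.AlgebraicGeometry.Morphisms.QuasiFinite

/-!
# Actions with finite stabilisers over an affine invariant morphism are proper
-/

set_option autoImplicit false
set_option linter.style.haveILetI false
set_option backward.isDefEq.respectTransparency.types false
universe u

open CategoryTheory Limits MonoidalCategory CartesianMonoidalCategory MonObj AlgebraicGeometry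
open TopologicalSpace (Opens)
open scoped TensorProduct
open CoactBr (sp pt)
open Groth.Agent.AffAct15 (pair IsModel)

noncomputable section

namespace Groth.Agent.AffProp15

variable {k : Type u} [Field k] {G X : Over (Spec (CommRingCat.of k))} [GrpObj G]
  {A R : Type u} [CommRing A] [HopfAlgebra k A] [CommRing R] [Algebra k R]
  [HopfRep.Comod k A R] [GLin.IsCoactAlg k A R]
  (eG : sp k A ⟶ G) [IsMonHom eG] [IsIso eG]

/-- A fixed family of points over the punctured line is constant when stabilisers are quasi-finite. -/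
theorem constant_of_fix [IsSeparated X.hom] [QuasiCompact G.hom] [LocallyOfFiniteType G.hom]
    [LocallyOfFiniteType X.hom] [QuasiCompact X.hom] (a : AlgGrp.Action G X)
    [LocallyQuasiFinite (pullback.snd (GIT.psi a (𝟙 X)).left (lift (𝟙 X) (𝟙 X)).left)]
    {K : Type u} [Field K] [IsAlgClosed K] [Algebra k K] (y : sp k K ⟶ X)
    (g : A →ₐ[k] LaurentPolynomial K)
    (hy : lift (pt g ≫ eG)⁻¹ (pt (IsScalarTower.toAlgHom k K (LaurentPolynomial K)) ≫ y) ≫ a.act =
      pt (IsScalarTower.toAlgHom k K (LaurentPolynomial K)) ≫ y) (x : A) :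
    ∃ c : K, g x = LaurentPolynomial.C c := by
  let L := LaurentPolynomial K
  let inC : K →ₐ[k] L := IsScalarTower.toAlgHom k K L
  let ψ := (GIT.psi a (𝟙 X)).left
  let Δ := (lift (𝟙 X) (𝟙 X)).left
  let Q := pullback (pullback.snd ψ Δ) y.left
  let q : Q ⟶ (sp k K).left := pullback.snd (pullback.snd ψ Δ) y.left
  haveI : LocallyQuasiFinite q := MorphismProperty.pullback_snd _ _ ‹_›
  haveI : QuasiCompact (GIT.psi a (𝟙 X)).left := by
    haveI : QuasiCompact ((GIT.psi a (𝟙 X)).left ≫ (X ⊗ X).hom) := by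
      rw [Over.w]
      exact inferInstanceAs (QuasiCompact (pullback.fst G.hom X.hom ≫ G.hom))
    haveI : IsSeparated (X ⊗ X).hom := inferInstanceAs (IsSeparated (pullback.fst X.hom X.hom ≫ X.hom))
    exact QuasiCompact.of_comp _ (X ⊗ X).hom
  haveI : QuasiCompact q := by
    haveI : QuasiCompact (pullback.snd ψ Δ) := MorphismProperty.pullback_snd _ _ ‹_›
    exact MorphismProperty.pullback_snd _ _ ‹_›
  haveI : IsLocallyArtinian (sp k K).left := inferInstanceAs (IsLocallyArtinian (Spec (CommRingCat.of K)))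
  haveI : IsFinite q := IsFinite.of_locallyQuasiFinite q
  let Qo : Over (Spec (CommRingCat.of k)) := Over.mk (q ≫ (sp k K).hom)
  let qo : Qo ⟶ sp k K := Over.homMk q rfl
  let pG : Qo ⟶ G := Over.homMk (pullback.fst (pullback.snd ψ Δ) y.left ≫ pullback.fst ψ Δ ≫ (fst G X).left) (by
    show (pullback.fst _ _ ≫ pullback.fst ψ Δ ≫ (fst G X).left) ≫ G.hom = q ≫ (sp k K).hom
    simp only [Category.assoc, Over.w]
    rw [← Over.w (GIT.psi a (𝟙 X)), ← Category.assoc (pullback.fst ψ Δ), pullback.condition, Category.assoc,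
      Over.w, ← Category.assoc, pullback.condition, Category.assoc, Over.w])
  let gx : sp k L ⟶ G ⊗ X := lift (pt g ≫ eG)⁻¹ (pt inC ≫ y)
  have hgx : gx ≫ GIT.psi a (𝟙 X) = (pt inC ≫ y) ≫ lift (𝟙 X) (𝟙 X) := by
    ext1
    · simp only [GIT.psi, Category.assoc, lift_fst, whiskerLeft_id, Category.id_comp, Category.comp_id, gx]
      exact hy
    · simp [GIT.psi, gx]
  let u₁ : (sp k L).left ⟶ pullback ψ Δ :=
    pullback.lift gx.left (pt inC ≫ y).left (congrArg CommaMorphism.left hgx)
  let u : (sp k L).left ⟶ Q := pullback.lift u₁ (pt inC).left (by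
    rw [pullback.lift_snd]
    rfl)
  let u' : sp k L ⟶ Qo := Over.homMk u (by
    show u ≫ q ≫ (sp k K).hom = _
    rw [← Category.assoc, pullback.lift_snd, Over.w])
  have huG : u' ≫ pG = (pt g ≫ eG)⁻¹ := by
    refine Over.OverMorphism.ext ?_
    show u ≫ pullback.fst _ _ ≫ pullback.fst ψ Δ ≫ (fst G X).left = _
    rw [pullback.lift_fst_assoc, pullback.lift_fst_assoc, ← Over.comp_left, lift_fst]
  have huw : u' ≫ pG⁻¹ ≫ inv eG = pt g := by
    rw [← Category.assoc, GrpObj.comp_inv, huG, inv_inv, Category.assoc, IsIso.hom_inv_id, Category.comp_id]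
  haveI : IsAffine (sp k K).left := inferInstanceAs (IsAffine (Spec _))
  haveI : IsAffine Qo.left := isAffine_of_isAffineHom q
  let φK : K →+* Γ(Qo.left, ⊤) := ((Scheme.ΓSpecIso (CommRingCat.of K)).inv ≫ qo.left.appTop).hom
  let χ : Γ(Qo.left, ⊤) →+* L := (u'.left.appTop ≫ (Scheme.ΓSpecIso (CommRingCat.of L)).hom).hom
  have hφK : φK.Finite := by
    haveI : IsFinite qo.left := ‹IsFinite q›
    have h := (HasAffineProperty.iff_of_isAffine (P := @IsFinite) (f := qo.left)).1 inferInstance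
    exact h.2.comp (RingHom.Finite.of_surjective _
      (ConcreteCategory.bijective_of_isIso (Scheme.ΓSpecIso (CommRingCat.of K)).inv).2)
  have hint := hφK.to_isIntegral (DiagGL.ev (pG⁻¹ ≫ inv eG) x)
  have hχ : χ (DiagGL.ev (pG⁻¹ ≫ inv eG) x) = g x := by
    show (Scheme.ΓSpecIso (CommRingCat.of L)).hom (u'.left.appTop (DiagGL.ev _ x)) = _
    rw [← DiagGL.ev_comp, huw, DiagGL.ev_pt]
    exact ConcreteCategory.congr_hom (Scheme.ΓSpecIso (CommRingCat.of L)).inv_hom_id (g x)
  have hχK : χ.comp φK = algebraMap K L := RingHom.ext fun c => by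
    show (Scheme.ΓSpecIso (CommRingCat.of L)).hom
      (u'.left.appTop (qo.left.appTop ((Scheme.ΓSpecIso (CommRingCat.of K)).inv c))) = _
    have e : u' ≫ qo = pt inC := Over.OverMorphism.ext (pullback.lift_snd _ _ _)
    rw [← CommRingCat.comp_apply, ← Scheme.Hom.comp_appTop, ← Over.comp_left, e]
    have h2 := DiagGL.ev_pt inC c
    rw [show DiagGL.ev (pt inC) c = (pt inC).left.appTop ((Scheme.ΓSpecIso (CommRingCat.of K)).inv c) from rfl] at h2
    rw [h2]
    exact ConcreteCategory.congr_hom (Scheme.ΓSpecIso (CommRingCat.of L)).inv_hom_id (inC c)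
  obtain ⟨p, hp, hp0⟩ := hint
  have hgint : IsIntegral K (g x) := ⟨p, hp, by
    rw [← hχ, ← hχK, ← Polynomial.hom_eval₂, hp0, map_zero]⟩
  obtain ⟨c, hc⟩ := minpoly.mem_range_of_degree_eq_one K (g x)
    (IsAlgClosed.degree_eq_one_of_irreducible K (minpoly.irreducible hgint))
  exact ⟨c, by rw [← hc]; exact LaurentPolynomial.algebraMap_apply c⟩

omit [IsIso eG] in
/-- The stabiliser condition in the coordinates of an invariant affine piece. -/
theorem noFixed {X' : Over (Spec (CommRingCat.of k))} (j : sp k R ⟶ X') (a' : AlgGrp.Action G X')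
    (hj : IsModel eG j a' (GLin.coactAlgHom k A R)) (a : AlgGrp.Action G X) (incl : X' ⟶ X)
    (hincl : a'.act ≫ incl = (G ◁ incl) ≫ a.act) {K : Type u} [Field K] [Algebra k K]
    (hc : ∀ (y : sp k K ⟶ X) (g : A →ₐ[k] LaurentPolynomial K),
      lift (pt g ≫ eG)⁻¹ (pt (IsScalarTower.toAlgHom k K (LaurentPolynomial K)) ≫ y) ≫ a.act =
        pt (IsScalarTower.toAlgHom k K (LaurentPolynomial K)) ≫ y → ∀ x, ∃ c : K, g x = LaurentPolynomial.C c) :
    NoFixed k K A R := by
  intro y g hfix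
  refine hc (pt y ≫ j ≫ incl) g ?_
  have h := hj (LaurentPolynomial K) ((IsScalarTower.toAlgHom k K (LaurentPolynomial K)).comp y) g
  rw [hfix, CoactBr.pt_comp] at h
  have h' := congrArg (· ≫ incl) h
  simp only [Category.assoc, hincl, lift_whiskerLeft_assoc] at h'
  simpa only [Category.assoc] using h'

/-- The shear morphism of an affine action is finite. -/
theorem isFinite_psi_affine [CharZero k] [Algebra.FiniteType k A] [Algebra.FiniteType k R]
    (hG : HopfRep.IsLinearlyReductive k A) [IsAffine G.left] (j : sp k R ⟶ X) [IsIso j] (a : AlgGrp.Action G X)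
    (hj : IsModel eG j a (GLin.coactAlgHom k A R)) (K : Type u) [Field K] [IsAlgClosed K] [Algebra k K]
    (hfix : NoFixed k K A R) : IsFinite (GIT.psi a (𝟙 X)).left := by
  haveI : IsIso j.left := inferInstanceAs (IsIso ((Over.forget _).map j))
  haveI : IsAffine (sp k R).left := inferInstanceAs (IsAffine (Spec _))
  haveI : IsAffine X.left := .of_isIso (inv j.left)
  haveI : IsAffine (G ⊗ X).left := inferInstanceAs (IsAffine (pullback G.hom X.hom))
  haveI : IsAffine (X ⊗ X).left := inferInstanceAs (IsAffine (pullback X.hom X.hom))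
  let iR : R →ₐ[k] R ⊗[k] A := Algebra.TensorProduct.includeLeft
  let iA : A →ₐ[k] R ⊗[k] A := Algebra.TensorProduct.includeRight
  let θ : sp k (R ⊗[k] A) ⟶ G ⊗ X := lift (pt iA ≫ eG)⁻¹ (pt iR ≫ j)
  obtain ⟨K', _, _, jK, _⟩ := AffAct15.exists_affModel (G ⊗ X)
  obtain ⟨x, hx⟩ := AffAct15.exists_pt (jK ≫ snd G X ≫ inv j)
  obtain ⟨g, hg⟩ := AffAct15.exists_pt ((jK ≫ fst G X)⁻¹ ≫ inv eG)
  let κ : G ⊗ X ⟶ sp k (R ⊗[k] A) := inv jK ≫ pt (pair x g)
  have hκ : κ ≫ θ = 𝟙 _ := by
    rw [Category.assoc, IsIso.inv_comp_eq, Category.comp_id]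
    simp only [θ, comp_lift, GrpObj.comp_inv, ← Category.assoc, ← CoactBr.pt_comp]
    rw [show (pair x g).comp iA = g from AlgHom.ext fun r => by simp [iA],
      show (pair x g).comp iR = x from AlgHom.ext fun r => by simp [iR], hg, hx]
    simp only [Category.assoc, IsIso.inv_hom_id, Category.comp_id, inv_inv]
    rw [← comp_lift, lift_fst_snd, Category.comp_id]
  have hiR : pair iR iA = AlgHom.id k _ := Algebra.TensorProduct.ext' fun s t => by simp [iR, iA]
  have hact : θ ≫ a.act = pt (GLin.coactAlgHom k A R) ≫ j := by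
    have h := hj (R ⊗[k] A) iR iA
    rwa [hiR, AlgHom.id_comp] at h
  -- the coordinates on the square
  let l₁ := DiagGL.ev (fst X X ≫ inv j)
  let l₂ := DiagGL.ev (snd X X ≫ inv j)
  letI := (DiagGL.alg (X ⊗ X)).toAlgebra
  let m : R ⊗[k] R →ₐ[k] Γ((X ⊗ X).left, ⊤) :=
    Algebra.TensorProduct.lift (S := k) ⟨l₁, DiagGL.ev_algebraMap _⟩ ⟨l₂, DiagGL.ev_algebraMap _⟩ fun _ _ => .all _ _
  let σ : X ⊗ X ⟶ sp k (R ⊗[k] R) := DiagGL.mk m.toRingHom m.commutes
  have hσ : θ ≫ GIT.psi a (𝟙 X) ≫ σ = pt (shear k A R) := by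
    refine DiagGL.ev_injective fun t => ?_
    rw [DiagGL.ev_pt, DiagGL.ev_comp, DiagGL.ev_comp, DiagGL.ev_mk]
    induction t with
    | zero => simp <;> rfl
    | add p q hp hq => simp only [map_add, hp, hq]; rfl
    | tmul r r' =>
      show θ.left.appTop ((GIT.psi a (𝟙 X)).left.appTop (l₁ r * l₂ r')) = _
      rw [map_mul, map_mul, ← DiagGL.ev_comp, ← DiagGL.ev_comp, ← DiagGL.ev_comp, ← DiagGL.ev_comp]
      simp only [GIT.psi, whiskerLeft_id, Category.id_comp, lift_fst_assoc, lift_snd_assoc]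
      rw [← Category.assoc, hact, show θ ≫ snd G X ≫ inv j = pt iR by simp [θ], Category.assoc,
        IsIso.hom_inv_id, Category.comp_id, DiagGL.ev_pt, DiagGL.ev_pt]
      refine (map_mul (Scheme.ΓSpecIso (CommRingCat.of (R ⊗[k] A))).inv.hom _ _).symm.trans (congrArg _ ?_)
      simp [shear, iR]
  haveI : IsFinite (pt (shear k A R)).left :=
    (IsFinite.SpecMap_iff (CommRingCat.ofHom (shear k A R).toRingHom)).2 (finite_shear K hG hfix)
  haveI : IsAffine (sp k (R ⊗[k] R)).left := inferInstanceAs (IsAffine (Spec _))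
  haveI : IsFinite ((θ ≫ GIT.psi a (𝟙 X)).left) := by
    haveI : IsFinite ((θ ≫ GIT.psi a (𝟙 X)).left ≫ σ.left) := by
      rw [← Over.comp_left, Category.assoc, hσ]; infer_instance
    exact MorphismProperty.of_postcomp (W' := @IsSeparated) _ _ σ.left inferInstance inferInstance
  haveI : IsAffine (sp k (R ⊗[k] A)).left := inferInstanceAs (IsAffine (Spec _))
  haveI : IsClosedImmersion κ.left := by
    haveI : IsClosedImmersion (κ.left ≫ θ.left) := by
      rw [← Over.comp_left, hκ]
      exact inferInstanceAs (IsClosedImmersion (𝟙 _))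
    exact IsClosedImmersion.of_comp _ θ.left
  rw [← Category.id_comp (GIT.psi a (𝟙 X)), ← hκ, Category.assoc, Over.comp_left]
  infer_instance

omit [HopfRep.Comod k A R] [GLin.IsCoactAlg k A R] in
include eG in
/-- Actions with quasi-finite stabilisers over an affine invariant morphism to a separated scheme are proper. -/
theorem isFinite_psi [CharZero k] [Algebra.FiniteType k A] (hG : HopfRep.IsLinearlyReductive k A) [IsAffine G.left]
    [LocallyOfFiniteType G.hom] [QuasiCompact G.hom]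
    [LocallyOfFiniteType X.hom] [QuasiCompact X.hom] [IsSeparated X.hom]
    {Y : Over (Spec (CommRingCat.of k))} [IsSeparated Y.hom] (a : AlgGrp.Action G X) (φ : X ⟶ Y) [IsAffineHom φ.left]
    (hinv : GIT.IsInvariant a φ)
    [LocallyQuasiFinite (pullback.snd (GIT.psi a (𝟙 X)).left (lift (𝟙 X) (𝟙 X)).left)] :
    IsFinite (GIT.psi a (𝟙 X)).left := by
  classical
  let Δ : Y ⟶ Y ⊗ Y := lift (𝟙 Y) (𝟙 Y)
  haveI : IsClosedImmersion Δ.left := by
    haveI : IsSeparated (fst Y Y).left := inferInstanceAs (IsSeparated (pullback.fst Y.hom Y.hom))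
    haveI : IsClosedImmersion (Δ.left ≫ (fst Y Y).left) := by
      rw [← Over.comp_left, lift_fst]
      exact inferInstanceAs (IsClosedImmersion (𝟙 _))
    exact IsClosedImmersion.of_comp _ (fst Y Y).left
  let O : Option Y.left.affineOpens → (X ⊗ X).left.Opens := fun i => i.elim
    ((φ ⊗ₘ φ).left ⁻¹ᵁ ⟨(Set.range Δ.left.base)ᶜ, Δ.left.isClosedEmbedding.isClosed_range.isOpen_compl⟩)
    (fun V => (fst X X).left ⁻¹ᵁ (φ.left ⁻¹ᵁ V.1) ⊓ (snd X X).left ⁻¹ᵁ (φ.left ⁻¹ᵁ V.1))
  refine IsZariskiLocalAtTarget.of_iSup_eq_top (P := @IsFinite) O ?_ fun i => ?_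
  · refine eq_top_iff.2 fun p _ => ?_
    by_cases hp : (φ ⊗ₘ φ).left p ∈ Set.range Δ.left.base
    · obtain ⟨z, hz⟩ := hp
      obtain ⟨V, hV, hzV, -⟩ := exists_isAffineOpen_mem_and_subset (U := (⊤ : Y.left.Opens)) (x := z) trivial
      refine Opens.mem_iSup.2 ⟨some ⟨V, hV⟩, ?_, ?_⟩
      · show ((fst X X) ≫ φ).left p ∈ V
        rw [show fst X X ≫ φ = (φ ⊗ₘ φ) ≫ fst Y Y by simp]
        show (fst Y Y).left ((φ ⊗ₘ φ).left p) ∈ V
        rw [← hz]
        show (Δ ≫ fst Y Y).left z ∈ V
        rw [lift_fst]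
        exact hzV
      · show ((snd X X) ≫ φ).left p ∈ V
        rw [show snd X X ≫ φ = (φ ⊗ₘ φ) ≫ snd Y Y by simp]
        show (snd Y Y).left ((φ ⊗ₘ φ).left p) ∈ V
        rw [← hz]
        show (Δ ≫ snd Y Y).left z ∈ V
        rw [lift_snd]
        exact hzV
    · exact Opens.mem_iSup.2 ⟨none, hp⟩
  · cases i with
    | none =>
      have he : (GIT.psi a (𝟙 X)).left ⁻¹ᵁ O none = ⊥ := by
        refine Opens.ext (Set.eq_empty_iff_forall_notMem.2 fun p hp => ?_)
        apply hp
        refine ⟨((snd G X) ≫ φ).left p, ?_⟩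
        show (((snd G X) ≫ φ) ≫ Δ).left p = (GIT.psi a (𝟙 X) ≫ (φ ⊗ₘ φ)).left p
        rw [show ((snd G X) ≫ φ) ≫ Δ = GIT.psi a (𝟙 X) ≫ (φ ⊗ₘ φ) by
          ext1 <;> simp [GIT.psi, Δ, show a.act ≫ φ = snd G X ≫ φ from hinv]]
      haveI : IsEmpty ((GIT.psi a (𝟙 X)).left ⁻¹ᵁ O none).toScheme :=
        ⟨fun z => by
          have := z.2
          simp only [he] at this
          exact this⟩
      infer_instance
    | some V =>
      obtain ⟨V, hV⟩ := V
      let Yo : Over (Spec (CommRingCat.of k)) := Over.mk (V.ι ≫ Y.hom)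
      let vj : Yo ⟶ Y := Over.homMk V.ι rfl
      let Xo : Over (Spec (CommRingCat.of k)) := Over.mk ((φ.left ⁻¹ᵁ V).ι ≫ X.hom)
      let jo : Xo ⟶ X := Over.homMk (φ.left ⁻¹ᵁ V).ι rfl
      let φo : Xo ⟶ Yo := Over.homMk (φ.left ∣_ V) (by
        show (φ.left ∣_ V) ≫ V.ι ≫ Y.hom = (φ.left ⁻¹ᵁ V).ι ≫ X.hom
        rw [morphismRestrict_ι_assoc, Over.w])
      have sq : IsPullback jo φo φ vj :=
        IsPullback.of_map (Over.forget _) (Over.OverMorphism.ext (morphismRestrict_ι _ _).symm)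
          (isPullback_morphismRestrict φ.left V).flip
      obtain ⟨ao, hao, -⟩ := GITQuot.exists_pullback_action hinv sq
      haveI : IsAffine Xo.left := hV.preimage φ.left
      obtain ⟨Ro, _, _, j, _⟩ := AffAct15.exists_affModel Xo
      haveI : IsIso j.left := inferInstanceAs (IsIso ((Over.forget _).map j))
      haveI : Algebra.FiniteType k Ro := by
        have h : LocallyOfFiniteType (sp k Ro).hom := by
          rw [← Over.w j]
          haveI : LocallyOfFiniteType Xo.hom :=
            inferInstanceAs (LocallyOfFiniteType ((φ.left ⁻¹ᵁ V).ι ≫ X.hom))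
          infer_instance
        exact RingHom.finiteType_algebraMap.1 ((HasRingHomProperty.Spec_iff (P := @LocallyOfFiniteType)).1 h)
      obtain ⟨hC, hm, hj⟩ := AffAct15.exists_model eG j ao
      letI := hC
      haveI := hm
      have hfix : NoFixed k (AlgebraicClosure k) A Ro :=
        noFixed eG j ao hj a jo hao fun y g h x => constant_of_fix eG a y g h x
      have hfin := isFinite_psi_affine eG hG j ao hj (AlgebraicClosure k) hfix
      haveI : IsOpenImmersion jo.left := inferInstanceAs (IsOpenImmersion (φ.left ⁻¹ᵁ V).ι)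
      haveI := GITHM15.isOpenImmersion_whiskerLeft (R := G) jo
      haveI := GITHM15.isOpenImmersion_tensorHom jo jo
      have hsq : (G ◁ jo) ≫ GIT.psi a (𝟙 X) = GIT.psi ao (𝟙 Xo) ≫ (jo ⊗ₘ jo) := by
        ext1 <;> simp [GIT.psi, hao]
      have hO : O (some ⟨V, hV⟩) = (jo ⊗ₘ jo).left.opensRange := by
        refine Opens.ext ?_
        show _ = Set.range (jo ⊗ₘ jo).left.base
        rw [GITHM15.range_tensorHom, show Set.range jo.left.base = (φ.left ⁻¹ᵁ V : Set X.left) from
          (φ.left ⁻¹ᵁ V).range_ι]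
        rfl
      have hrange : (GIT.psi a (𝟙 X)).left ⁻¹ᵁ (jo ⊗ₘ jo).left.opensRange = (G ◁ jo).left.opensRange := by
        rw [← hO]
        refine Opens.ext ?_
        show _ = Set.range (G ◁ jo).left.base
        rw [GITHM15.range_whiskerLeft, show Set.range jo.left.base = (φ.left ⁻¹ᵁ V : Set X.left) from
          (φ.left ⁻¹ᵁ V).range_ι]
        ext p
        show (GIT.psi a (𝟙 X) ≫ fst X X ≫ φ).left p ∈ V ∧ (GIT.psi a (𝟙 X) ≫ snd X X ≫ φ).left p ∈ V ↔
          (snd G X ≫ φ).left p ∈ V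
        simp only [GIT.psi, lift_fst_assoc, lift_snd_assoc, whiskerLeft_id, Category.id_comp,
          show a.act ≫ φ = snd G X ≫ φ from hinv, and_self]
      have hpb := IsOpenImmersion.isPullback (GIT.psi ao (𝟙 Xo)).left (G ◁ jo).left (jo ⊗ₘ jo).left
        (GIT.psi a (𝟙 X)).left (by rw [← Over.comp_left, ← Over.comp_left, hsq]) hrange
      rw [hO]
      have hres := isPullback_morphismRestrict (GIT.psi a (𝟙 X)).left (jo ⊗ₘ jo).left.opensRange
      let e := (jo ⊗ₘ jo).left.isoOpensRange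
      have hpb' : IsPullback ((GIT.psi ao (𝟙 Xo)).left ≫ e.hom) (G ◁ jo).left
          (jo ⊗ₘ jo).left.opensRange.ι (GIT.psi a (𝟙 X)).left :=
        hpb.of_iso (Iso.refl _) e (Iso.refl _) (Iso.refl _) (by simp) (by simp) (by simp [e]) (by simp)
      rw [← hpb'.isoIsPullback_inv_fst _ _ hres, MorphismProperty.cancel_left_of_respectsIso (P := @IsFinite),
        MorphismProperty.cancel_right_of_respectsIso (P := @IsFinite)]
      exact hfin

end Groth.Agent.AffProp15
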